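import Cfsg.Agent.H29.NilCoverLinear.Common

set_option autoImplicit false

/-!
No nilpotent minimal cover of a group between `PSL_n` and `PGL_n`, `n ≥ 3`.
-/

namespace CfsgLib.H29.NilCoverLinear

open Matrix

variable {F : Type*} [Field F] {n : ℕ}

theorem pGroup_common_fixed [Finite F] (p : ℕ) [Fact p.Prime] [CharP F p]
    {P : Subgroup (GL (Fin n) F)} (hP : IsPGroup p ↥P) (hn : 0 < n) :
    (∃ v : Fin n → F, v ≠ 0 ∧ ∀ g ∈ P, (g : Matrix (Fin n) (Fin n) F) *ᵥ v = v) ∧
    (∃ v : Fin n → F, v ≠ 0 ∧ ∀ g ∈ P, ((g : Matrix (Fin n) (Fin n) F))ᵀ *ᵥ v = v) := by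
  classical
  have : Fintype F := Fintype.ofFinite F
  have hcard : p ∣ Nat.card (Fin n → F) := by
    obtain ⟨k, -, hk⟩ := FiniteField.card F p
    rw [Nat.card_fun, Nat.card_eq_fintype_card, Nat.card_eq_fintype_card, hk, Fintype.card_fin,
      ← pow_mul]
    exact dvd_pow_self p (Nat.mul_ne_zero k.pos.ne' hn.ne')
  constructor
  · let act : MulAction ↥P (Fin n → F) :=
      { smul := fun g v => ((g : GL (Fin n) F) : Matrix (Fin n) (Fin n) F) *ᵥ v
        one_smul := fun v => by
          show ((((1 : ↥P) : GL (Fin n) F)) : Matrix (Fin n) (Fin n) F) *ᵥ v = v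
          simp
        mul_smul := fun g h v => by
          show ((((g * h : ↥P) : GL (Fin n) F)) : Matrix (Fin n) (Fin n) F) *ᵥ v = _
          simp only [Subgroup.coe_mul, Units.val_mul, ← Matrix.mulVec_mulVec]
          rfl }
    letI := act
    obtain ⟨v, hv, hne⟩ := hP.exists_fixed_point_of_prime_dvd_card_of_fixed_point (α := Fin n → F)
      hcard (a := 0) (fun g => Matrix.mulVec_zero _)
    exact ⟨v, hne.symm, fun g hg => hv ⟨g, hg⟩⟩
  · let act : MulAction ↥P (Fin n → F) :=
      { smul := fun g v => (((g⁻¹ : ↥P) : GL (Fin n) F) : Matrix (Fin n) (Fin n) F)ᵀ *ᵥ v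
        one_smul := fun v => by
          show ((((1⁻¹ : ↥P) : GL (Fin n) F)) : Matrix (Fin n) (Fin n) F)ᵀ *ᵥ v = v
          simp
        mul_smul := fun g h v => by
          show (((((g * h)⁻¹ : ↥P) : GL (Fin n) F)) : Matrix (Fin n) (Fin n) F)ᵀ *ᵥ v = _
          simp only [_root_.mul_inv_rev, Subgroup.coe_mul, Units.val_mul, Matrix.transpose_mul,
            ← Matrix.mulVec_mulVec]
          rfl }
    letI := act
    obtain ⟨v, hv, hne⟩ := hP.exists_fixed_point_of_prime_dvd_card_of_fixed_point (α := Fin n → F)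
      hcard (a := 0) (fun g => Matrix.mulVec_zero _)
    refine ⟨v, hne.symm, fun g hg => ?_⟩
    have := hv (⟨g, hg⟩⁻¹ : ↥P)
    change ((((⟨g, hg⟩⁻¹⁻¹ : ↥P) : GL (Fin n) F)) : Matrix (Fin n) (Fin n) F)ᵀ *ᵥ v = v at this
    simpa using this

variable (n) in
/-- The full upper unipotent Jordan block. -/
def reg (F : Type*) [Field F] : Matrix (Fin n) (Fin n) F :=
  Matrix.of fun i j => if j.val = i.val ∨ j.val = i.val + 1 then 1 else 0

theorem reg_apply (i j : Fin n) :
    reg n F i j = if j.val = i.val ∨ j.val = i.val + 1 then 1 else 0 := rfl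

theorem det_reg : (reg n F).det = 1 := by
  rw [Matrix.det_of_isUpperTriangular (fun i j (h : j < i) => ?_), Finset.prod_eq_one fun i _ => ?_]
  · simp [reg_apply]
  · rw [reg_apply, if_neg]
    have := Fin.lt_def.mp h
    omega

theorem reg_sub_one_pow (k : ℕ) (i j : Fin n) (h : ((reg n F - 1) ^ k) i j ≠ 0) :
    i.val + k ≤ j.val := by
  induction k generalizing j with
  | zero =>
    rw [pow_zero, Matrix.one_apply] at h
    split_ifs at h with e
    · subst e; omega
    · exact absurd rfl h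
  | succ k ih =>
    rw [pow_succ, Matrix.mul_apply] at h
    obtain ⟨l, -, hl⟩ := Finset.exists_ne_zero_of_sum_ne_zero h
    have h1 := ih l (left_ne_zero_of_mul hl)
    have h2 := right_ne_zero_of_mul hl
    have h3 : j.val = l.val + 1 := by
      by_contra hne
      apply h2
      rw [Matrix.sub_apply, reg_apply, Matrix.one_apply]
      by_cases e : l = j
      · subst e; simp
      · have : j.val ≠ l.val := fun e' => e (Fin.ext e'.symm)
        rw [if_neg e, if_neg (by tauto)]; simp
    omega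

theorem reg_pow_prime_pow (p : ℕ) [Fact p.Prime] [CharP F p] :
    reg n F ^ p ^ n = 1 := by
  rcases Nat.eq_zero_or_pos n with rfl | hn
  · exact Subsingleton.elim _ _
  haveI : NeZero n := ⟨hn.ne'⟩
  have h0 : (reg n F - 1) ^ p ^ n = 0 := by
    ext i j
    by_contra h
    have := reg_sub_one_pow _ i j h
    have := j.isLt
    have := Nat.lt_pow_self (Fact.out : p.Prime).one_lt (n := n)
    omega
  calc reg n F ^ p ^ n = ((reg n F - 1) + 1) ^ p ^ n := by rw [sub_add_cancel]
    _ = (reg n F - 1) ^ p ^ n + 1 ^ p ^ n := add_pow_char_pow_of_commute _ _ (Commute.one_right _)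
    _ = 1 := by rw [h0, zero_add, one_pow]

theorem reg_mulVec (v : Fin n → F) (i : Fin n) :
    (reg n F *ᵥ v) i = v i + if h : i.val + 1 < n then v ⟨i.val + 1, h⟩ else 0 := by
  show ∑ j, reg n F i j * v j = _
  simp only [reg_apply, ite_mul, one_mul, zero_mul, Finset.sum_ite, Finset.sum_const_zero, add_zero]
  by_cases h : i.val + 1 < n
  · rw [dif_pos h, show Finset.univ.filter (fun j : Fin n => j.val = i.val ∨ j.val = i.val + 1) =
      {i, ⟨i.val + 1, h⟩} by ext j; simp [Fin.ext_iff]]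
    rw [Finset.sum_pair (by simp [Fin.ext_iff])]
  · rw [dif_neg h, show Finset.univ.filter (fun j : Fin n => j.val = i.val ∨ j.val = i.val + 1) =
      {i} by ext j; simp [Fin.ext_iff]; intro hj; omega]
    simp

theorem reg_transpose_mulVec (v : Fin n → F) (i : Fin n) :
    ((reg n F)ᵀ *ᵥ v) i =
      v i + if h : 0 < i.val then v ⟨i.val - 1, by omega⟩ else 0 := by
  show ∑ j, (reg n F)ᵀ i j * v j = _
  simp only [Matrix.transpose_apply, reg_apply, ite_mul, one_mul, zero_mul, Finset.sum_ite,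
    Finset.sum_const_zero, add_zero]
  by_cases h : 0 < i.val
  · rw [dif_pos h, show Finset.univ.filter (fun j : Fin n => i.val = j.val ∨ i.val = j.val + 1) =
      {i, ⟨i.val - 1, by omega⟩} by ext j; simp [Fin.ext_iff]; omega]
    rw [Finset.sum_pair (by simp [Fin.ext_iff]; omega)]
  · rw [dif_neg h, show Finset.univ.filter (fun j : Fin n => i.val = j.val ∨ i.val = j.val + 1) =
      {i} by ext j; simp [Fin.ext_iff]; omega]
    simp

theorem fixed_reg {v : Fin n → F} (h : reg n F *ᵥ v = v) (i : Fin n) (hi : 0 < i.val) : v i = 0 := by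
  have := congrFun h ⟨i.val - 1, by omega⟩
  rw [reg_mulVec, add_eq_left, dif_pos (show i.val - 1 + 1 < n by omega)] at this
  rwa [show (⟨i.val - 1 + 1, _⟩ : Fin n) = i from Fin.ext (by show i.val - 1 + 1 = i.val; omega)] at this

theorem fixed_reg_transpose {v : Fin n → F} (h : (reg n F)ᵀ *ᵥ v = v) (i : Fin n)
    (hi : i.val + 1 < n) : v i = 0 := by
  have := congrFun h ⟨i.val + 1, hi⟩
  rw [reg_transpose_mulVec, add_eq_left, dif_pos (show 0 < i.val + 1 by omega)] at this
  rwa [show (⟨i.val + 1 - 1, _⟩ : Fin n) = i from Fin.ext (by show i.val + 1 - 1 = i.val; omega)] at this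

theorem no_nilpotent_minimal_cover_big [Finite F] (hn : 3 ≤ n)
    (G : Subgroup (GL (Fin n) F ⧸ Subgroup.center (GL (Fin n) F)))
    (hG : ((Matrix.SpecialLinearGroup.toGL :
      Matrix.SpecialLinearGroup (Fin n) F →* GL (Fin n) F).range).map
      (QuotientGroup.mk' (Subgroup.center (GL (Fin n) F))) ≤ G) :
    ¬ ∃ 𝓐 : Finset (Subgroup ↥G), CfsgLib.NilCover.MinCover 𝓐 := by
  classical
  rintro ⟨𝓐, h𝓐⟩
  have : Fintype F := Fintype.ofFinite F
  obtain ⟨p, hchar⟩ := CharP.exists F
  have hp : p.Prime := (CharP.char_is_prime_or_zero F p).resolve_right (CharP.char_ne_zero_of_finite F p)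
  haveI := Fact.mk hp
  have h0 : 0 < n := by omega
  let z0 : Fin n := ⟨0, h0⟩
  let one' : Fin n := ⟨1, by omega⟩
  let last : Fin n := ⟨n - 1, by omega⟩
  set π := QuotientGroup.mk' (Subgroup.center (GL (Fin n) F)) with hπ
  -- the line stabiliser
  let St : Subgroup (GL (Fin n) F) :=
    { carrier := {g | ∀ v : Fin n → F, (∀ i, i ≠ z0 → v i = 0) →
        ∀ i, i ≠ z0 → ((g : Matrix (Fin n) (Fin n) F) *ᵥ v) i = 0}
      mul_mem' := fun {a b} ha hb v hv => by
        rw [Units.val_mul, ← Matrix.mulVec_mulVec]; exact ha _ (hb v hv)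
      one_mem' := fun v hv => by simpa using hv
      inv_mem' := fun {a} ha v hv => by
        have hm : ((a : GL (Fin n) F) : Matrix (Fin n) (Fin n) F) ^ 1 = a := pow_one _
        obtain ⟨k, -, hk⟩ : ∃ k, 0 < k ∧ a⁻¹ = a ^ (k - 1) :=
          ⟨orderOf a, orderOf_pos a, by
            rw [inv_eq_of_mul_eq_one_right]
            rw [← pow_succ', Nat.sub_add_cancel (orderOf_pos a), pow_orderOf_eq_one]⟩
        rw [hk, Units.val_pow_eq_pow_val]
        generalize k - 1 = m
        induction m generalizing v with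
        | zero => simpa using hv
        | succ m ih => rw [pow_succ, ← Matrix.mulVec_mulVec]; exact ih _ (ha v hv) }
  have hmemSt : ∀ {g : GL (Fin n) F}, g ∈ St → ∀ v : Fin n → F, (∀ i, i ≠ z0 → v i = 0) →
      ∀ i, i ≠ z0 → ((g : Matrix (Fin n) (Fin n) F) *ᵥ v) i = 0 := fun hg => hg
  let M : Subgroup ↥G := (St.map π).subgroupOf G
  have hcenSt : Subgroup.center (GL (Fin n) F) ≤ St := by
    intro c hc v hv i hi
    obtain ⟨r, rfl⟩ := (Matrix.GeneralLinearGroup.center_eq_range_scalar (R := F) (n := Fin n)) ▸ hc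
    rw [Matrix.GeneralLinearGroup.coe_scalar, Matrix.scalar_apply, Matrix.mulVec_diagonal, hv i hi, mul_zero]
  have hcomapSt : (St.map π).comap π = St :=
    Subgroup.comap_map_eq_self (by rw [hπ, QuotientGroup.ker_mk']; exact hcenSt)
  have hMne : M ≠ ⊤ := by
    intro h
    rw [Subgroup.subgroupOf_eq_top] at h
    have hij : one' ≠ z0 := by simp [one', z0, Fin.ext_iff]
    let t : Matrix.SpecialLinearGroup (Fin n) F :=
      ⟨Matrix.transvection one' z0 1, Matrix.det_transvection_of_ne _ _ hij 1⟩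
    have ht : Matrix.SpecialLinearGroup.toGL t ∈ St := by
      rw [← hcomapSt]
      exact h (hG (Subgroup.mem_map_of_mem π ⟨t, rfl⟩))
    have := hmemSt ht (Pi.single z0 1) (fun i hi => Pi.single_eq_of_ne hi _) one' hij
    simp [t, Matrix.mulVec_single, Matrix.transvection, Matrix.single] at this
    change (1 : Matrix (Fin n) (Fin n) F) one' z0 + (if one' = one' ∧ z0 = z0 then (1 : F) else 0) = 0 at this
    simp [Matrix.one_apply_ne hij] at this
  -- the two regular unipotent elements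
  let σ : Equiv.Perm (Fin n) := Equiv.swap one' last
  have hσ0 : σ z0 = z0 := Equiv.swap_apply_of_ne_of_ne
    (by simp [one', z0, Fin.ext_iff]) (by simp [last, z0, Fin.ext_iff]; omega)
  let xs : Matrix.SpecialLinearGroup (Fin n) F := ⟨reg n F, det_reg⟩
  let ys : Matrix.SpecialLinearGroup (Fin n) F :=
    ⟨(reg n F).submatrix σ σ, by rw [Matrix.det_submatrix_equiv_self, det_reg]⟩
  set x := Matrix.SpecialLinearGroup.toGL xs
  set y := Matrix.SpecialLinearGroup.toGL ys
  have hxv : (x : Matrix (Fin n) (Fin n) F) = reg n F := rfl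
  have hyv : (y : Matrix (Fin n) (Fin n) F) = (reg n F).submatrix σ σ := rfl
  have hxpow : x ^ p ^ n = 1 := Units.ext (by
    rw [Units.val_pow_eq_pow_val, hxv, reg_pow_prime_pow p, Units.val_one])
  have hypow : y ^ p ^ n = 1 := Units.ext (by
    rw [Units.val_pow_eq_pow_val, hyv, Units.val_one]
    have e := map_pow (Matrix.reindexAlgEquiv F F σ.symm) (reg n F) (p ^ n)
    simp only [Matrix.reindexAlgEquiv_apply, Matrix.reindex_apply, Equiv.symm_symm] at e
    rw [← e, reg_pow_prime_pow p]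
    ext i j; simp [Matrix.one_apply, σ.injective.eq_iff])
  have hxfix : ∀ v : Fin n → F, (x : Matrix (Fin n) (Fin n) F) *ᵥ v = v → ∀ i, i ≠ z0 → v i = 0 :=
    fun v hv i hi => fixed_reg (hxv ▸ hv) i (Nat.pos_of_ne_zero fun e => hi (Fin.ext e))
  have hyfix : ∀ v : Fin n → F, (y : Matrix (Fin n) (Fin n) F) *ᵥ v = v → ∀ i, i ≠ z0 → v i = 0 := by
    intro v hv i hi
    have e : reg n F *ᵥ (v ∘ σ.symm) = v ∘ σ.symm := by
      rw [hyv, Matrix.submatrix_mulVec_equiv] at hv
      funext k
      have := congrFun hv (σ.symm k)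
      simpa using this
    have h1 : σ i ≠ z0 := fun e' => hi (σ.injective (e'.trans hσ0.symm))
    have := fixed_reg e (σ i) (Nat.pos_of_ne_zero fun e' => h1 (Fin.ext e'))
    simpa using this
  -- members containing them lie in the line stabiliser
  have key : ∀ (A : Subgroup ↥G), A ∈ 𝓐 → ∀ (w : GL (Fin n) F), w ^ p ^ n = 1 →
      (∀ v : Fin n → F, (w : Matrix (Fin n) (Fin n) F) *ᵥ v = v → ∀ i, i ≠ z0 → v i = 0) →
      w ∈ (A.map G.subtype).comap π → (A.map G.subtype).comap π ≤ St := by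
    intro A hA w hw hfix hwA
    set A' := (A.map G.subtype).comap π with hA'
    haveI := h𝓐.nilp A hA
    haveI : Group.IsNilpotent ↥(A.map G.subtype) :=
      Group.nilpotent_of_mulEquiv (A.equivMapOfInjective _ G.subtype_injective)
    haveI : Group.IsNilpotent ↥A' := by
      let f : ↥A' →* ↥(A.map G.subtype) := (π.comp A'.subtype).codRestrict _ fun g => g.2
      refine Subgroup.isNilpotent_of_ker_le_center f fun g hg => ?_
      have hg' : π (g : GL (Fin n) F) = 1 := congrArg Subtype.val hg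
      rw [hπ, QuotientGroup.mk'_apply, QuotientGroup.eq_one_iff] at hg'
      exact Subgroup.mem_center_iff.mpr fun u => Subtype.ext (Subgroup.mem_center_iff.mp hg' u)
    have hwp : ∃ k, orderOf w = p ^ k := by
      obtain ⟨k, -, hk⟩ := (Nat.dvd_prime_pow hp).mp (orderOf_dvd_of_pow_eq_one hw)
      exact ⟨k, hk⟩
    obtain ⟨S, hS, -, hSmem⟩ := exists_pSubgroup p A'
    obtain ⟨v, hv0, hv⟩ := (pGroup_common_fixed p hS h0).1
    have hvz : ∀ i, i ≠ z0 → v i = 0 := hfix v (hv w (hSmem w hwA hwp))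
    have hvne : v z0 ≠ 0 := fun e => hv0 (funext fun i => by
      by_cases hi : i = z0
      · rw [hi, e]; rfl
      · rw [hvz i hi]; rfl)
    intro g hg u hu i hi
    obtain ⟨a, b, rfl, haA, -, hap, -, hcomm⟩ := exists_parts p A' hg
    have hu' : u = (u z0 / v z0) • v := funext fun j => by
      by_cases hj : j = z0
      · subst hj; simp [div_mul_cancel₀ _ hvne]
      · simp [hu j hj, hvz j hj]
    have hbv : (w : Matrix (Fin n) (Fin n) F) *ᵥ ((b : Matrix (Fin n) (Fin n) F) *ᵥ v) =
        (b : Matrix (Fin n) (Fin n) F) *ᵥ v := by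
      rw [Matrix.mulVec_mulVec, ← Units.val_mul, hcomm w hwA hwp, Units.val_mul,
        ← Matrix.mulVec_mulVec, hv w (hSmem w hwA hwp)]
    have hb0 := hfix _ hbv
    have hbv2 : (b : Matrix (Fin n) (Fin n) F) *ᵥ v =
        (((b : Matrix (Fin n) (Fin n) F) *ᵥ v) z0 / v z0) • v := funext fun j => by
      by_cases hj : j = z0
      · subst hj; simp [div_mul_cancel₀ _ hvne]
      · simp [hb0 j hj, hvz j hj]
    rw [hu', Units.val_mul, ← Matrix.mulVec_mulVec, Matrix.mulVec_smul, hbv2, Matrix.mulVec_smul,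
      Matrix.mulVec_smul, hv a (hSmem a haA hap)]
    simp [hvz i hi]
  have hgen : ∀ w : Matrix.SpecialLinearGroup (Fin n) F,
      π (Matrix.SpecialLinearGroup.toGL w) ∈ G := fun w => hG (Subgroup.mem_map_of_mem π ⟨w, rfl⟩)
  obtain ⟨A, hA, hxA⟩ := h𝓐.cover ⟨π x, hgen xs⟩
  obtain ⟨B, hB, hyB⟩ := h𝓐.cover ⟨π y, hgen ys⟩
  have hxA' : x ∈ (A.map G.subtype).comap π := ⟨_, hxA, rfl⟩
  have hyB' : y ∈ (B.map G.subtype).comap π := ⟨_, hyB, rfl⟩
  have hle : ∀ (A : Subgroup ↥G), (A.map G.subtype).comap π ≤ St → A ≤ M := by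
    intro A h a ha
    obtain ⟨g, hg⟩ := QuotientGroup.mk'_surjective _ (a : GL (Fin n) F ⧸ Subgroup.center _)
    exact ⟨g, h ⟨a, ha, hg.symm⟩, hg⟩
  have hAB := h𝓐.unique_le hMne hA hB (hle A (key A hA x hxpow hxfix hxA'))
    (hle B (key B hB y hypow hyfix hyB'))
  subst hAB
  -- both lie in one `p`-group
  set A' := (A.map G.subtype).comap π with hA'
  haveI := h𝓐.nilp A hA
  haveI : Group.IsNilpotent ↥(A.map G.subtype) :=
    Group.nilpotent_of_mulEquiv (A.equivMapOfInjective _ G.subtype_injective)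
  haveI : Group.IsNilpotent ↥A' := by
    let f : ↥A' →* ↥(A.map G.subtype) := (π.comp A'.subtype).codRestrict _ fun g => g.2
    refine Subgroup.isNilpotent_of_ker_le_center f fun g hg => ?_
    have hg' : π (g : GL (Fin n) F) = 1 := congrArg Subtype.val hg
    rw [hπ, QuotientGroup.mk'_apply, QuotientGroup.eq_one_iff] at hg'
    exact Subgroup.mem_center_iff.mpr fun u => Subtype.ext (Subgroup.mem_center_iff.mp hg' u)
  obtain ⟨S, hS, -, hSmem⟩ := exists_pSubgroup p A'
  have hmem : ∀ w, w ∈ A' → w ^ p ^ n = 1 → w ∈ S := fun w hw h => by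
    obtain ⟨k, -, hk⟩ := (Nat.dvd_prime_pow hp).mp (orderOf_dvd_of_pow_eq_one h)
    exact hSmem w hw ⟨k, hk⟩
  obtain ⟨v, hv0, hv⟩ := (pGroup_common_fixed p hS h0).2
  have hx' := hv x (hmem x hxA' hxpow)
  have hy' := hv y (hmem y hyB' hypow)
  rw [hxv] at hx'
  rw [hyv, Matrix.transpose_submatrix, Matrix.submatrix_mulVec_equiv] at hy'
  have e : (reg n F)ᵀ *ᵥ (v ∘ σ.symm) = v ∘ σ.symm := by
    funext k
    have := congrFun hy' (σ.symm k)
    simpa using this
  apply hv0
  funext i
  by_cases hi : i.val + 1 < n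
  · exact fixed_reg_transpose hx' i hi
  · have hil : i = last := Fin.ext (by simp [last]; omega)
    have := fixed_reg_transpose e one' (by simp [one']; omega)
    simpa [σ, hil] using this

end CfsgLib.H29.NilCoverLinear
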