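import Cfsg.Agent.NilCover.Basic

set_option autoImplicit false

/-!
Nilpotent subgroups: the `p`-part and the `p'`-elements.
-/

namespace CfsgLib.H29.NilCoverLinear

variable {G : Type*} [Group G] [Finite G] (p : ℕ) [Fact p.Prime]

/-- In a nilpotent subgroup the `p`-elements form a `p`-subgroup. -/
theorem exists_pSubgroup (A : Subgroup G) [Group.IsNilpotent ↥A] :
    ∃ S : Subgroup G, IsPGroup p ↥S ∧ S ≤ A ∧ ∀ a ∈ A, (∃ k, orderOf a = p ^ k) → a ∈ S := by
  let S : Sylow p ↥A := default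
  haveI : (S : Subgroup ↥A).Normal :=
    CfsgLib.Hall.NormComplement.sylow_normal_of_nilpotent inferInstance p S
  refine ⟨(S : Subgroup ↥A).map A.subtype, S.2.map A.subtype, ?_, ?_⟩
  · rintro _ ⟨a, -, rfl⟩; exact a.2
  · rintro a ha ⟨k, hk⟩
    refine ⟨⟨a, ha⟩, ?_, rfl⟩
    exact CfsgLib.Hall.sylow_le_of_normal_not_dvd (S : Subgroup ↥A) S.not_dvd_index
      (IsPGroup.of_card (n := k) (by rw [Nat.card_zpowers, ← Subgroup.orderOf_coe, hk]))
      (Subgroup.mem_zpowers _)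

/-- Every element of a nilpotent subgroup is a product of a `p`-element and a `p'`-element, the latter
commuting with all `p`-elements. -/
theorem exists_parts (A : Subgroup G) [Group.IsNilpotent ↥A] {g : G} (hg : g ∈ A) :
    ∃ a b, g = a * b ∧ a ∈ A ∧ b ∈ A ∧ (∃ k, orderOf a = p ^ k) ∧ (orderOf b).Coprime p ∧
      ∀ u ∈ A, (∃ k, orderOf u = p ^ k) → u * b = b * u := by
  obtain ⟨a, b, hab, -, ha, hb, -, -⟩ := Transfer.exists_pPart_mul (p := p) (⟨g, hg⟩ : ↥A)
  refine ⟨a, b, congrArg Subtype.val hab, a.2, b.2, ?_, ?_, ?_⟩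
  · obtain ⟨k, hk⟩ := ha
    exact ⟨k, by rw [Subgroup.orderOf_coe, hk]⟩
  · rwa [Subgroup.orderOf_coe]
  · rintro u hu ⟨k, hk⟩
    have := CfsgLib.Hall.DPi.commute_of_coprime_orders (a := (⟨u, hu⟩ : ↥A)) (b := b) (i := k)
      (by rw [← Subgroup.orderOf_coe]; exact hk) hb
    exact congrArg Subtype.val this

end CfsgLib.H29.NilCoverLinear
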