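import Cfsg.Agent.H29.NilCoverLinear.Common
import Cfsg.Agent.H29.Solubilizer.Unipotent
import Cfsg.Agent.H29.Dickson.Intersect

set_option autoImplicit false

/-!
No nilpotent minimal cover of a group between `PSL₂` and `PGL₂`.
-/

namespace CfsgLib.H29.NilCoverLinear

open Matrix OnePoint MulAction CfsgLib.H29.Dickson CfsgLib.H29.Solubilizer
open scoped OnePoint

variable {F : Type*} [Field F] [Fintype F]

section
variable (p : ℕ) [Fact p.Prime] [CharP F p]

include p in
/-- Everything commuting with a semisimple element permutes its fixed points. -/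
theorem mem_T2_of_commute {z g : P2 F} {a b : OnePoint (KK F)} (hab : a ≠ b) (hz1 : z ≠ 1)
    (hza : iota z • a = a) (hzb : iota z • b = b) (hc : g * z = z * g) : g ∈ T2 a b := by
  have hi : iota z ≠ 1 := (map_ne_one_iff _ iota_injective).mpr hz1
  have hfix : ∀ x : OnePoint (KK F), iota z • x = x → x = a ∨ x = b := by
    intro x hx
    by_contra h
    push Not at h
    exact hi (eq_one_of_fix₃ hab h.1.symm h.2.symm hza hzb hx)
  have key : ∀ x : OnePoint (KK F), iota z • x = x → iota z • (iota g • x) = iota g • x :=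
    fun x hx => by rw [← mul_smul, ← map_mul, ← hc, map_mul, mul_smul, hx]
  rw [mem_T2]
  rcases hfix _ (key a hza) with h | h <;> rcases hfix _ (key b hzb) with h' | h'
  · exact absurd (smul_left_cancel _ (h.trans h'.symm)) hab
  · exact Or.inl ⟨h, h'⟩
  · exact Or.inr ⟨h, h'⟩
  · exact absurd (smul_left_cancel _ (h.trans h'.symm)) hab

/-- A nilpotent subgroup containing an element of order `p` consists of `p`-elements fixing its
point. -/
theorem le_unipotent {A : Subgroup (P2 F)} [Group.IsNilpotent ↥A] {u : P2 F} (huA : u ∈ A)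
    (hu1 : u ≠ 1) (hup : u ^ p = 1) {z : OnePoint F} (hz : u • z = z) :
    ∀ g ∈ A, g • z = z ∧ ∃ k, orderOf g = p ^ k := by
  classical
  have := finite_P2 (F := F)
  have := charP_KK (F := F) p
  obtain ⟨z', hz', huniq, -⟩ := exists_unique_fixed p hu1 hup
  obtain rfl := huniq z hz
  have hup' : ∃ k, orderOf u = p ^ k := ⟨1, by rw [pow_one]; exact orderOf_eq_prime hup hu1⟩
  obtain ⟨S, hS, -, hSmem⟩ := exists_pSubgroup p A
  have hcard : Nat.card (OnePoint F) = Fintype.card F + 1 := by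
    rw [show Nat.card (OnePoint F) = Nat.card (Option F) from rfl, Nat.card_eq_fintype_card,
      Fintype.card_option]
  have : Finite (OnePoint F) := inferInstanceAs (Finite (Option F))
  have hnd : ¬ p ∣ Nat.card (OnePoint F) := by
    rw [hcard]
    obtain ⟨n, hn, hq⟩ := exists_deg (F := F) p
    intro h
    have := (Nat.dvd_add_right (hq ▸ dvd_pow_self p hn.ne')).mp h
    exact (Fact.out : p.Prime).one_lt.ne' (Nat.dvd_one.mp this)
  obtain ⟨w, hw⟩ := hS.nonempty_fixed_point_of_prime_not_dvd_card (OnePoint F) hnd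
  have hSfix : ∀ g ∈ S, g • z = z := by
    intro g hg
    have h1 : u • w = w := hw (⟨u, hSmem u huA hup'⟩ : S)
    rw [← huniq w h1]
    exact hw (⟨g, hg⟩ : S)
  intro g hg
  obtain ⟨x, b, rfl, hxA, hbA, hxp, hbp, hcomm⟩ := exists_parts p A hg
  suffices hb : b = 1 by rw [hb, mul_one]; exact ⟨hSfix x (hSmem x hxA hxp), hxp⟩
  by_contra hb1
  have hbz : b • z = z :=
    huniq _ (by rw [← mul_smul, hcomm u huA hup', mul_smul, hz])
  have hbp' : b ^ p ≠ 1 := by
    intro h
    rw [orderOf_eq_prime h hb1, Nat.coprime_self] at hbp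
    exact (Fact.out : p.Prime).one_lt.ne' hbp
  obtain ⟨c, d, e, -, D, ⟨hbc, hbd⟩, -, -⟩ := orderOf_cases p hb1 hbp'
  have huT := mem_T2_of_commute p D.ne hb1 hbc hbd (hcomm u huA hup')
  have hbz' : iota b • ex z = ex z := by rw [iota_smul_ex, hbz]
  have huz : iota u • ex z = ex z := by rw [iota_smul_ex, hz]
  have hi : iota b ≠ 1 := (map_ne_one_iff _ iota_injective).mpr hb1
  have hzcd : ex z = c ∨ ex z = d := by
    by_contra h
    push Not at h
    exact hi (eq_one_of_fix₃ D.ne h.1.symm h.2.symm hbc hbd hbz')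
  obtain ⟨zu, -, -, huK⟩ := exists_unique_fixed p hu1 hup
  rcases huT with ⟨h1, h2⟩ | ⟨h1, h2⟩
  · exact D.ne ((huK c h1).trans (huK d h2).symm)
  · rcases hzcd with e' | e' <;> rw [e'] at huz
    · exact D.ne (huz.symm.trans h1)
    · exact D.ne (h2.symm.trans huz)

include p in
/-- A nilpotent subgroup containing a semisimple element of order at least three. -/
theorem le_T2 {A : Subgroup (P2 F)} [Group.IsNilpotent ↥A] {x : P2 F} (hxA : x ∈ A)
    (hx2 : x * x ≠ 1) {a b : OnePoint (KK F)} (hab : a ≠ b) (hxT : x ∈ T1 a b) : A ≤ T2 a b := by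
  have := finite_P2 (F := F)
  have hx1 : x ≠ 1 := fun h => hx2 (by rw [h, one_mul])
  haveI : Nontrivial ↥A := ⟨⟨⟨x, hxA⟩, 1, fun h => hx1 (congrArg Subtype.val h)⟩⟩
  obtain ⟨⟨⟨z, hzA⟩, hzc⟩, hz1⟩ : ∃ z : Subgroup.center ↥A, z ≠ 1 :=
    haveI := (Subgroup.nontrivial_iff_ne_bot _).mpr (Group.IsNilpotent.center_ne_bot (G := ↥A))
    exists_ne 1
  have hzc' : ∀ g ∈ A, g * z = z * g := fun g hg =>
    congrArg Subtype.val (Subgroup.mem_center_iff.mp hzc ⟨g, hg⟩)
  have hzne : z ≠ 1 := fun h => hz1 (Subtype.ext (Subtype.ext h))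
  have hzT := mem_T2_of_commute p hab hx1 hxT.1 hxT.2 (hzc' x hxA).symm
  have hz' : z ∈ T1 a b := by
    rcases hzT with h | h
    · exact h
    · exfalso
      apply hx2
      have hz2 : z * z = 1 := sq_eq_one_of_swap hab h.1 h.2
      have hzx : z * x * (z * x) = 1 := by
        refine sq_eq_one_of_swap hab ?_ ?_ <;> rw [map_mul, mul_smul]
        · rw [hxT.1, h.1]
        · rw [hxT.2, h.2]
      calc x * x = z * z * (x * x) := by rw [hz2, one_mul]
        _ = z * (z * x) * x := by group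
        _ = z * (x * z) * x := by rw [hzc' x hxA]
        _ = z * x * (z * x) := by group
        _ = 1 := hzx
  exact fun g hg => mem_T2_of_commute p hab hzne hz'.1 hz'.2 (hzc' g hg)

end

theorem no_nilpotent_minimal_cover_two (h4 : 4 ≤ Fintype.card F) (G : Subgroup (P2 F))
    (hG : W F ≤ G) : ¬ ∃ 𝓐 : Finset (Subgroup ↥G), CfsgLib.NilCover.MinCover 𝓐 := by
  classical
  rintro ⟨𝓐, h𝓐⟩
  obtain ⟨p, hp, hchar, n, hn, hq⟩ := exists_p (F := F)
  haveI := Fact.mk hp
  have := finite_P2 (F := F)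
  have := charP_KK (F := F) p
  have : Fintype (OnePoint F) := inferInstanceAs (Fintype (Option F))
  set q := Fintype.card F with hqdef
  have hg2 : Nat.gcd 2 (q - 1) ≤ 2 := gcd_le_two
  have hg0 : 0 < Nat.gcd 2 (q - 1) := Nat.gcd_pos_of_pos_left _ two_pos
  have hpq : p ∣ q := hq ▸ dvd_pow_self p hn.ne'
  -- members seen in `PGL₂`
  have hmem : ∀ g (hg : g ∈ G), ∃ A ∈ 𝓐, g ∈ A.map G.subtype := fun g hg => by
    obtain ⟨A, hA, h⟩ := h𝓐.cover ⟨g, hg⟩
    exact ⟨A, hA, _, h, rfl⟩
  have hnil : ∀ A ∈ 𝓐, Group.IsNilpotent ↥(A.map G.subtype) := fun A hA => by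
    haveI := h𝓐.nilp A hA
    exact Group.nilpotent_of_mulEquiv (A.equivMapOfInjective _ G.subtype_injective)
  -- unipotent elements
  have hu : ∀ z : OnePoint F, ∃ u : P2 F, u ∈ W F ∧ u ≠ 1 ∧ u ^ p = 1 ∧ u • z = z := by
    intro z
    obtain ⟨γ, rfl⟩ := exists_to_infty z
    refine ⟨γ * tra 1 * γ⁻¹, (W_normal (F := F)).conj_mem _ (tra_mem_W 1) γ, ?_, ?_, ?_⟩
    · rw [Ne, conj_eq_one_iff]
      exact fun h => one_ne_zero (tra_injective (h.trans tra_zero.symm))
    · rw [conj_pow, tra_pow_char, mul_one, mul_inv_cancel]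
    · simp [mul_smul, tra_smul_infty]
  choose u huW hu1 hup huz using hu
  choose AU hAU huA using fun z => hmem (u z) (hG (huW z))
  have hUfix : ∀ z, ∀ g ∈ (AU z).map G.subtype, g • z = z ∧ ∃ k, orderOf g = p ^ k := fun z =>
    haveI := hnil _ (hAU z)
    le_unipotent p (huA z) (hu1 z) (hup z) (huz z)
  -- semisimple generators
  have htor : ∀ {a b : OnePoint (KK F)} {e : ℕ}, TorusData a b e → 3 ≤ e →
      (e = q - 1 ∨ e = q + 1) → ∃ x : P2 F, x ∈ T1 a b ∧ x ∈ W F ∧
        Nat.gcd 2 (q - 1) * orderOf x = e ∧ ¬ p ∣ orderOf x ∧ x ≠ 1 := by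
    intro a b e D he3 he
    haveI := isCyclic_T1 (F := F) D.ne
    haveI : IsCyclic ↥(T1 a b ⊓ W F) :=
      isCyclic_of_injective (Subgroup.inclusion inf_le_left) (Subgroup.inclusion_injective _)
    obtain ⟨⟨x, hx⟩, hgen⟩ := IsCyclic.exists_generator (α := ↥(T1 a b ⊓ W F))
    have ho : orderOf x = Nat.card ↥(T1 a b ⊓ W F) := by
      rw [← orderOf_eq_card_of_forall_mem_zpowers hgen, ← Subgroup.orderOf_coe]
    have h1 : Nat.gcd 2 (q - 1) * orderOf x = e := by rw [ho]; exact D.special.1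
    have hnp : ¬ p ∣ orderOf x := by
      intro hd
      have hde : p ∣ e := h1 ▸ hd.mul_left _
      rcases he with rfl | rfl
      · have := Nat.dvd_sub hpq hde
        rw [show q - (q - 1) = 1 by omega, Nat.dvd_one] at this
        exact hp.ne_one this
      · exact hp.ne_one (Nat.dvd_one.mp ((Nat.dvd_add_right hpq).mp hde))
    refine ⟨x, hx.1, hx.2, h1, hnp, fun h => ?_⟩
    rw [h, orderOf_one, mul_one] at h1
    omega
  let 𝒯 : Set (Subgroup (P2 F)) := {K | ∃ a b, TorusData a b (q + 1) ∧ K = T1 a b}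
  have h𝒯 : ∀ K : 𝒯, ∃ (a b : OnePoint (KK F)) (x : P2 F), TorusData a b (q + 1) ∧
      (K : Subgroup (P2 F)) = T1 a b ∧ x ∈ T1 a b ∧ x ∈ W F ∧
        Nat.gcd 2 (q - 1) * orderOf x = q + 1 ∧ ¬ p ∣ orderOf x ∧ x * x ≠ 1 := by
    rintro ⟨K, a, b, D, rfl⟩
    obtain ⟨x, hx1, hx2, hx3, hx4, hx5⟩ := htor D (by omega) (Or.inr rfl)
    refine ⟨a, b, x, D, rfl, hx1, hx2, hx3, hx4, fun h => ?_⟩
    rw [orderOf_eq_prime (p := 2) (by rw [pow_two]; exact h) hx5] at hx3
    omega
  choose ta tb tx htD htK htx1 htxW htxo htxp htx2 using h𝒯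
  choose AT hAT hxA using fun K => hmem (tx K) (hG (htxW K))
  have hTle : ∀ K, (AT K).map G.subtype ≤ T2 (ta K) (tb K) := fun K =>
    haveI := hnil _ (hAT K)
    le_T2 p (hxA K) (htx2 K) (htD K).ne (htx1 K)
  -- an element of a split torus
  obtain ⟨a, b, D⟩ := exists_torus_split (F := F)
  obtain ⟨s, hs1, hsW, hso, hsp, hsne⟩ := htor D (by omega) (Or.inl rfl)
  obtain ⟨AS, hAS, hsA⟩ := hmem s (hG hsW)
  have hnotU : ∀ z g, g ∈ (AU z).map G.subtype → ¬ p ∣ orderOf g → g = 1 := by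
    intro z g hg hnd
    obtain ⟨-, k, hk⟩ := hUfix z g hg
    cases k with
    | zero => rwa [pow_zero, orderOf_eq_one_iff] at hk
    | succ k => exact absurd (hk ▸ dvd_pow_self p k.succ_ne_zero) hnd
  have hpair : ∀ {c d : OnePoint (KK F)} {K : 𝒯}, c ≠ d → ∀ {g : P2 F}, g ≠ 1 → g ∈ T1 c d →
      g ∈ T1 (ta K) (tb K) → T1 (F := F) c d = T1 (ta K) (tb K) := by
    intro c d K hcd g hg1 hg hg'
    have hi : iota g ≠ 1 := (map_ne_one_iff _ iota_injective).mpr hg1
    have hfix : ∀ x : OnePoint (KK F), iota g • x = x → x = ta K ∨ x = tb K := by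
      intro x hx
      by_contra h
      push Not at h
      exact hi (eq_one_of_fix₃ (htD K).ne h.1.symm h.2.symm hg'.1 hg'.2 hx)
    rcases hfix c hg.1 with rfl | rfl <;> rcases hfix d hg.2 with rfl | rfl
    · exact absurd rfl hcd
    · rfl
    · exact T1_comm _ _
    · exact absurd rfl hcd
  let f : OnePoint F ⊕ 𝒯 ⊕ Unit → 𝓐 := fun t => match t with
    | .inl z => ⟨AU z, hAU z⟩
    | .inr (.inl K) => ⟨AT K, hAT K⟩
    | .inr (.inr _) => ⟨AS, hAS⟩
  have hUT : ∀ z K, AU z ≠ AT K := fun z K e => by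
    have := hnotU z _ (e ▸ hxA K) (htxp K)
    exact htx2 K (by rw [this, one_mul])
  have hUS : ∀ z, AU z ≠ AS := fun z e => hsne (hnotU z _ (e ▸ hsA) hsp)
  have hTS : ∀ K, AT K ≠ AS := by
    intro K e
    subst e
    have hsT := hTle K hsA
    rcases hsT with h | h
    · have e' := hpair (K := K) D.ne hsne hs1 h
      have := D.card.symm.trans ((congrArg (fun H : Subgroup (P2 F) => Nat.card H) e').trans (htD K).card)
      omega
    · have hss : s * s = 1 := sq_eq_one_of_swap (htD K).ne h.1 h.2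
      have hso2 : orderOf s = 2 := orderOf_eq_prime (by rw [pow_two]; exact hss) hsne
      rw [hso2] at hso
      have hxo := htxo K
      have hodd : ¬ 2 ∣ orderOf (tx K) := by
        rcases (show Nat.gcd 2 (q - 1) = 1 ∨ Nat.gcd 2 (q - 1) = 2 by omega) with g | g <;>
          rw [g] at hso hxo <;> omega
      haveI := hnil _ hAS
      have hc := congrArg Subtype.val (CfsgLib.Hall.DPi.commute_of_coprime_orders
        (p := 2) (a := (⟨s, hsA⟩ : ↥((AT K).map G.subtype))) (b := ⟨tx K, hxA K⟩) (i := 1)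
        (by rw [pow_one, ← Subgroup.orderOf_coe]; exact hso2)
        (by rw [← Subgroup.orderOf_coe]; exact (Nat.prime_two.coprime_iff_not_dvd.mpr hodd).symm))
      simp only [Subgroup.coe_mul] at hc
      have hsx : s * tx K * (s * tx K) = 1 := by
        refine sq_eq_one_of_swap (htD K).ne ?_ ?_ <;> rw [map_mul, mul_smul]
        · rw [(htx1 K).1, h.1]
        · rw [(htx1 K).2, h.2]
      apply htx2 K
      calc tx K * tx K = s * s * (tx K * tx K) := by rw [hss, one_mul]
        _ = s * (s * tx K) * tx K := by group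
        _ = s * (tx K * s) * tx K := by rw [hc]
        _ = s * tx K * (s * tx K) := by group
        _ = 1 := hsx
  have hinj : Function.Injective f := by
    rintro (z | K | ⟨⟩) (z' | K' | ⟨⟩) e <;> simp only [f, Subtype.mk.injEq] at e
    · obtain ⟨w, -, hw, -⟩ := exists_unique_fixed p (hu1 z) (hup z)
      have h1 : u z • z' = z' := (hUfix z' (u z) (e ▸ huA z)).1
      rw [hw z (huz z), hw z' h1]
    · exact absurd e (hUT _ _)
    · exact absurd e (hUS _)
    · exact absurd e.symm (hUT _ _)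
    · have h := hTle K' (e ▸ hxA K)
      rcases h with h | h
      · have := hpair (K := K') (htD K).ne (fun e0 => htx2 K (by rw [e0, one_mul])) (htx1 K) h
        rw [Subtype.ext ((htK K).trans (this.trans (htK K').symm))]
      · exact absurd (sq_eq_one_of_swap (htD K').ne h.1 h.2) (htx2 K)
    · exact absurd e (hTS _)
    · exact absurd e.symm (hUS _)
    · exact absurd e.symm (hTS _)
    · rfl
  -- the competing cover
  have : Fintype 𝒯 := Fintype.ofFinite _
  let 𝓑 : Finset (Subgroup ↥G) :=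
    (Finset.univ.image fun z : OnePoint F => (stabilizer (P2 F) z).subgroupOf G) ∪
      (Finset.univ.image fun K : 𝒯 => (K : Subgroup (P2 F)).subgroupOf G)
  have hcover := h𝓐.minimal 𝓑 ⟨?_, ?_⟩
  · have h1 := Fintype.card_le_of_injective f hinj
    rw [Fintype.card_sum, Fintype.card_sum, Fintype.card_unit, Fintype.card_coe] at h1
    have h2 : 𝓑.card ≤ Fintype.card (OnePoint F) + Fintype.card 𝒯 :=
      (Finset.card_union_le _ _).trans (Nat.add_le_add Finset.card_image_le Finset.card_image_le)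
    omega
  · intro B hB
    simp only [𝓑, Finset.mem_union, Finset.mem_image, Finset.mem_univ, true_and] at hB
    rcases hB with ⟨z, rfl⟩ | ⟨K, rfl⟩ <;> rw [Ne, Subgroup.subgroupOf_eq_top] <;> intro h
    · exact stab_inf_ne h4 le_rfl z (inf_eq_right.mpr (hG.trans h))
    · obtain ⟨z₀⟩ : Nonempty (OnePoint F) := ⟨∞⟩
      have := h (hG (huW z₀))
      rw [htK K] at this
      obtain ⟨z', -, -, hK⟩ := exists_unique_fixed p (hu1 z₀) (hup z₀)
      exact (htD K).ne ((hK _ this.1).trans (hK _ this.2).symm)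
  · rintro ⟨g, hg⟩
    simp only [𝓑, Finset.mem_union, Finset.mem_image, Finset.mem_univ, true_and]
    by_cases hg1 : g = 1
    · exact ⟨_, Or.inl ⟨∞, rfl⟩, by simp [Subgroup.mem_subgroupOf, hg1]⟩
    by_cases hgp : g ^ p = 1
    · obtain ⟨z, hz, -, -⟩ := exists_unique_fixed p hg1 hgp
      exact ⟨_, Or.inl ⟨z, rfl⟩, hz⟩
    obtain ⟨c, d, e, he, D', hgT, -, -⟩ := orderOf_cases p hg1 hgp
    rcases he with rfl | rfl
    · rcases D'.rational h4 (by omega) with ⟨-, c₀, d₀, -, rfl, rfl⟩ | ⟨h, -⟩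
      · refine ⟨_, Or.inl ⟨c₀, rfl⟩, ?_⟩
        have : iota g • ex c₀ = ex c₀ := hgT.1
        rwa [iota_smul_ex, ex_injective.eq_iff] at this
      · omega
    · exact ⟨_, Or.inr ⟨⟨T1 c d, c, d, D', rfl⟩, rfl⟩, hgT⟩

end CfsgLib.H29.NilCoverLinear
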